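import Cfsg.Agent.Lib.Spor.Mults.Golay
import Cfsg.Agent.Lib.Spor.Mults.MTwentyTwo.Data

/-!
The group M22 on numbered points as a packed group.
-/

set_option autoImplicit false
set_option maxRecDepth 20000

namespace CfsgLib.Spor.Mults.MTwentyTwo

open Cfsg CfsgLib.Spor CfsgLib.Spor.PermCert
open scoped Pointwise

/-- The group. -/
def H : Subgroup (Equiv.Perm (Fin 24)) := numbered Spor.M22

/-- The code of a generator. -/
def genCode (k : ℕ) : ℕ := ((eltRows.getD 0 []).getD 0 []).getD k 0

theorem gen_check : ((List.range 2).all fun k =>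
    let c := genCode k
    isM24Code c && ((permFn c 23 == 23) && (permFn c 0 == 0)) &&
      (List.range 24).all fun i => permFn c i == look 5 eltRows k i) = true := by
  decide +kernel

theorem gen_matches : ∀ k < 2, ∃ g ∈ H, Matches 5 g eltRows k := by
  intro k hk
  have h := gen_check
  simp only [List.all_eq_true, List.mem_range, Bool.and_eq_true, beq_iff_eq] at h
  obtain ⟨⟨h24, hfix⟩, hlook⟩ := h k hk
  refine exists_matches (isPermCode_of_isM24Code h24) ?_ hlook
  have hm := permOf_mem_M24 h24
  have hc := isPermCode_of_isM24Code h24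
  refine ⟨⟨hm, ?_⟩, ?_⟩
  · show permOf (genCode k) (none : GolayPt) = none
    rw [permOf_apply hc, show ptIdx (none : GolayPt) = 23 from rfl, hfix.1]
    exact idxPt_ptIdx none
  · show permOf (genCode k) (some 0 : GolayPt) = some 0
    rw [permOf_apply hc, show ptIdx (some 0 : GolayPt) = 0 from rfl, hfix.2]
    exact idxPt_ptIdx (some 0)

theorem packed : Packed 5 eltRows 149 basePts transIdx H :=
  Packed.of_gens gen_matches elt_ops elt_count chain_check chain_size
    (by rw [H, card_numbered, OuterAut.card_M22]) base_lt

/-- The frozen group. -/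
noncomputable def equivH : ↥Spor.M22 ≃* ↥H := numberedEquiv Spor.M22

end CfsgLib.Spor.Mults.MTwentyTwo
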