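import Cfsg.Agent.Lib.Spor.SchurCert.PermBridge
import Cfsg.Agent.Lib.Spor.Mults.MTwentyTwo.Data

/-!
The certificate at the prime 2: a polycyclic sequence of a Sylow subgroup and conjugations killing the tails.
-/

set_option autoImplicit false
set_option maxRecDepth 100000
set_option maxHeartbeats 0

namespace CfsgLib.Spor.Mults.MTwentyTwo.P2Cyc

open CfsgLib.Spor.SchurCert

/-- The Sylow elements. -/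
def sw : List (List ℕ) := [
    [119, 52, 66, 138, 131],
    [148, 6, 142, 107, 131],
    [1, 147, 50, 110, 130],
    [98, 16, 65, 108, 131],
    [78, 145, 115, 106, 6],
    [1, 6, 142, 132, 131],
    [148, 31, 116, 110, 131]]

/-- The conjugating elements. -/
def gw : List (List ℕ) := [
    [98, 28, 139, 135, 130],
    [98, 95, 67, 110, 130],
    [77, 16, 66, 136, 6]]

/-- The certificate. -/
def cert : SchurCert.Cert where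
  p := 2
  m := 7
  N := 2
  rules := [
    ([0, 0], [4]),
    ([1, 1], [3, 4, 5]),
    ([2, 2], []),
    ([3, 3], []),
    ([4, 4], [6]),
    ([5, 5], []),
    ([6, 6], []),
    ([1, 0], [0, 1, 3, 5, 6]),
    ([2, 0], [0, 2, 3, 4, 5]),
    ([2, 1], [1, 2, 3, 4, 5, 6]),
    ([3, 0], [0, 3, 5]),
    ([3, 1], [1, 3, 5]),
    ([3, 2], [2, 3, 5, 6]),
    ([4, 0], [0, 4]),
    ([4, 1], [1, 4, 5, 6]),
    ([4, 2], [2, 4, 5, 6]),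
    ([4, 3], [3, 4, 6]),
    ([5, 0], [0, 5, 6]),
    ([5, 1], [1, 5, 6]),
    ([5, 2], [2, 5]),
    ([5, 3], [3, 5]),
    ([5, 4], [4, 5]),
    ([6, 0], [0, 6]),
    ([6, 1], [1, 6]),
    ([6, 2], [2, 6]),
    ([6, 3], [3, 6]),
    ([6, 4], [4, 6]),
    ([6, 5], [5, 6])]
  maps := [
    [([2], [2, 3, 4]), ([3, 4], [5]), ([5], [3, 4, 6]), ([6], [2])],
    [([2, 6], [3, 6]), ([3, 4, 5, 6], [0, 1, 4, 5, 6])],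
    [([1, 5], [0, 1, 2, 6]), ([2, 6], [0, 1, 3, 4]), ([3, 4, 5, 6], [5, 6])]]
  overlaps := [
    ([0, 0, 0], [(0, 0), (13, 0)], [(0, 1)]),
    ([1, 1, 1], [(1, 0), (18, 2), (14, 1), (11, 0), (21, 2), (5, 3), (27, 3), (6, 4)], [(1, 1)]),
    ([1, 1, 0], [(1, 0), (17, 2), (13, 1), (10, 0), (21, 2), (5, 3)], [(7, 1), (7, 0), (23, 4), (18, 3), (11, 2), (1, 1), (20, 3), (16, 2), (3, 1), (27, 2), (27, 3), (5, 2), (27, 2), (6, 3), (25, 3), (20, 2), (16, 1), (27, 3), (6, 4), (5, 3)]),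
    ([1, 0, 0], [(0, 1)], [(7, 0), (22, 4), (17, 3), (10, 2), (7, 1), (0, 0), (14, 0), (25, 3), (20, 2), (16, 1), (27, 3), (6, 4), (5, 3), (25, 3), (16, 2), (3, 1), (6, 2), (5, 2), (6, 2)]),
    ([2, 2, 0], [(2, 0)], [(8, 1), (8, 0), (19, 4), (15, 3), (12, 2), (2, 1), (26, 3), (21, 2), (27, 4), (5, 3), (6, 3), (20, 3), (16, 2), (3, 1), (27, 2), (26, 3), (21, 2), (4, 1), (27, 1), (6, 2), (5, 1)]),
    ([2, 0, 0], [(0, 1)], [(8, 0), (17, 4), (13, 3), (10, 2), (8, 1), (0, 0), (15, 0), (25, 3), (20, 2), (16, 1), (27, 3), (6, 4), (21, 3), (4, 2), (27, 2), (27, 3), (5, 2), (25, 2), (3, 1), (27, 1), (26, 2), (21, 1), (27, 3), (5, 2), (6, 2)]),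
    ([2, 2, 1], [(2, 0)], [(9, 1), (9, 0), (24, 5), (19, 4), (15, 3), (12, 2), (2, 1), (26, 3), (21, 2), (27, 4), (5, 3), (6, 3), (25, 4), (20, 3), (16, 2), (3, 1), (27, 2), (6, 3), (21, 2), (4, 1), (27, 1), (27, 2), (5, 1), (6, 1)]),
    ([2, 1, 1], [(1, 1)], [(9, 0), (23, 5), (18, 4), (14, 3), (11, 2), (9, 1), (1, 0), (19, 2), (15, 1), (12, 0), (26, 3), (21, 2), (27, 4), (5, 3), (6, 3), (20, 3), (16, 2), (3, 1), (27, 2), (26, 3), (21, 2), (4, 1), (27, 1), (6, 2), (5, 1), (25, 1), (27, 2), (26, 3), (21, 2), (27, 4), (5, 3), (6, 3), (6, 4)]),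
    ([3, 3, 0], [(3, 0)], [(10, 1), (10, 0), (20, 2), (3, 1), (5, 1)]),
    ([3, 0, 0], [(0, 1)], [(10, 0), (17, 2), (10, 1), (0, 0), (16, 0), (27, 2), (27, 3), (5, 2), (6, 2)]),
    ([3, 1, 1], [(1, 1), (3, 0)], [(11, 0), (18, 2), (11, 1), (1, 0), (20, 2), (16, 1), (3, 0), (27, 1), (27, 2), (5, 1), (27, 1), (6, 2)]),
    ([3, 3, 2], [(3, 0)], [(12, 1), (12, 0), (25, 3), (20, 2), (3, 1), (27, 2), (5, 1), (6, 1)]),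
    ([3, 2, 2], [(2, 1)], [(12, 0), (24, 3), (19, 2), (12, 1), (2, 0), (27, 2), (5, 1), (6, 1)]),
    ([4, 4, 4], [(4, 0), (26, 0)], [(4, 1)]),
    ([4, 4, 0], [(4, 0), (22, 0)], [(13, 1), (13, 0), (4, 1)]),
    ([4, 4, 1], [(4, 0), (23, 0)], [(14, 1), (14, 0), (26, 3), (21, 2), (4, 1), (27, 1), (6, 2), (5, 1)]),
    ([4, 2, 0], [(15, 0), (22, 3), (17, 2), (13, 1), (8, 0), (21, 4), (4, 3), (27, 3), (27, 4), (5, 3), (6, 3)], [(8, 1), (13, 0), (15, 1), (25, 4), (20, 3), (16, 2), (27, 4), (6, 5), (21, 4), (4, 3), (27, 3), (27, 4), (5, 3)]),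
    ([4, 3, 1], [(16, 0), (23, 2), (14, 1), (11, 0), (21, 2), (5, 3), (6, 3)], [(11, 1), (14, 0), (25, 3), (20, 2), (16, 1), (27, 3), (6, 4), (5, 3)]),
    ([5, 5, 0], [(5, 0)], [(17, 1), (17, 0), (27, 2), (5, 1), (6, 1)]),
    ([5, 3, 2], [(20, 0), (19, 1), (12, 0), (27, 3), (5, 2)], [(12, 1), (19, 0), (20, 1), (5, 2)])]
  fuses := [
    ⟨0, [1, 0], [0, 1], [(15, 1), (12, 0), (26, 3), (21, 2), (27, 4), (5, 3), (6, 3)], [], [(19, 0), (20, 1), (21, 2)], []⟩,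
    ⟨0, [3, 0], [0, 3], [(24, 0)], [], [(2, 0)], [(15, 2), (12, 1), (2, 0), (26, 2), (21, 1), (27, 3), (5, 2), (6, 2)]⟩,
    ⟨0, [3, 3], [], [(6, 0)], [], [(2, 0)], []⟩,
    ⟨1, [0, 0], [], [(24, 1), (2, 0), (6, 0)], [], [(25, 1), (3, 0), (6, 0)], []⟩,
    ⟨1, [1, 1], [], [(25, 3), (20, 2), (16, 1), (3, 0), (27, 1), (6, 2), (21, 1), (4, 0), (27, 0), (27, 1), (5, 0), (6, 0)], [], [(22, 4), (17, 3), (13, 2), (7, 1), (0, 0), (14, 0), (25, 3), (20, 2), (16, 1), (27, 3), (6, 4), (5, 3), (26, 3), (4, 2), (6, 2), (6, 3), (18, 2), (11, 1), (1, 0), (20, 2), (16, 1), (3, 0), (27, 1), (27, 2), (5, 1), (27, 1), (6, 2), (21, 1), (4, 0), (27, 0), (27, 1), (5, 0), (6, 0)], []⟩,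
    ⟨2, [0, 0], [2], [(18, 1), (1, 0), (5, 2), (27, 2)], [], [(22, 3), (8, 2), (7, 1), (0, 0), (14, 0), (25, 3), (20, 2), (16, 1), (27, 3), (6, 4), (5, 3), (24, 3), (15, 2), (12, 1), (26, 4), (21, 3), (27, 5), (5, 4), (6, 4), (25, 4), (16, 3), (3, 2), (6, 3), (4, 2), (27, 2), (6, 3), (18, 2), (9, 1), (1, 0), (19, 2), (15, 1), (12, 0), (26, 3), (21, 2), (27, 4), (5, 3), (6, 3), (20, 3), (16, 2), (3, 1), (27, 2), (26, 3), (21, 2), (4, 1), (27, 1), (6, 2), (5, 1), (27, 1), (6, 2), (19, 1), (2, 0)], []⟩,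
    ⟨2, [1, 0], [0, 1, 2], [(23, 1), (9, 0), (6, 5), (5, 4)], [(19, 1), (25, 3), (20, 2), (26, 4), (21, 3), (27, 5), (5, 4), (6, 4)], [(13, 3), (10, 2), (7, 1), (0, 0), (14, 0), (25, 3), (20, 2), (16, 1), (27, 3), (6, 4), (5, 3), (25, 3), (16, 2), (3, 1), (6, 2), (21, 2), (4, 1), (27, 1), (23, 2), (18, 1), (1, 0), (5, 2), (6, 2), (15, 1), (12, 0), (26, 3), (21, 2), (27, 4), (5, 3), (6, 3)], [(22, 3), (8, 2), (7, 1), (0, 0), (14, 0), (25, 3), (20, 2), (16, 1), (27, 3), (6, 4), (5, 3), (24, 3), (15, 2), (12, 1), (26, 4), (21, 3), (27, 5), (5, 4), (6, 4), (25, 4), (16, 3), (3, 2), (6, 3), (4, 2), (27, 2), (6, 3), (18, 2), (9, 1), (1, 0), (19, 2), (15, 1), (12, 0), (26, 3), (21, 2), (27, 4), (5, 3), (6, 3), (20, 3), (16, 2), (3, 1), (27, 2), (26, 3), (21, 2), (4, 1), (27, 1), (6, 2), (5, 1), (27, 1), (6,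 2), (20, 1), (21, 2), (5, 3)]⟩]
  adj := [
    [],
    [],
    [],
    [(0, 1), (1, 1), (10, 1)],
    [(0, 1)],
    [(10, 1)],
    [(4, 1)]]
  base := [
    ([(1, 1), (8, 1)], 2, [])]
  dense := [
    [0, 0, 0, 0, 0, 0, 0, 0, 0, 0, 0, 0, 0, 1],
    [0, 0, 0, 0, 0, 1, 1, 0, 0, 0, 0, 1, 0, 0, 1, 0, 0, 0, 1, 0, 0, 1, 0, 0, 0, 0, 0, 1],
    [0, 0, 0, 1, 0, 1, 0, 0, 0, 0, 1, 1, 0, 1, 0, 0, 0, 1, 1, 0, 0, 1, 0, 1, 0, 1],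
    [0, 0, 0, 1, 0, 0, 1, 0, 0, 0, 1, 0, 0, 0, 1, 0, 0, 1, 0, 0, 1, 0, 1, 0, 0, 0, 0, 1],
    [0, 0, 0, 1, 1, 0, 0, 0, 0, 0, 0, 0, 1, 0, 0, 1, 1, 0, 0, 1, 1, 0, 0, 0, 0, 0, 0, 1],
    [0, 0, 0, 1, 1, 0, 0, 0, 0, 0, 1, 0, 0, 1, 0, 1, 1, 1, 0, 0, 1, 0, 0, 0, 0, 0, 1, 1],
    [0, 0, 0, 1, 1, 0, 1, 0, 0, 0, 0, 0, 1, 0, 0, 1, 1, 0, 0, 1, 1, 0, 0, 0, 1, 1, 1],
    [0, 0, 0, 1, 1, 1, 0, 0, 0, 0, 0, 1, 1, 0, 1, 1, 1, 0, 1, 1, 1, 1, 0, 1, 0, 1, 1, 1],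
    [0, 0, 0, 0, 0, 1, 0, 0, 0, 0, 0, 0, 0, 0, 0, 0, 0, 0, 0, 0, 1],
    [0, 0, 0, 0, 0, 1, 1, 0, 0, 0, 0, 0, 0, 0, 0, 0, 1, 1],
    [0, 0, 0, 0, 0, 1, 1, 0, 0, 0, 0, 0, 0, 0, 0, 0, 1, 0, 1, 0, 1, 0, 0, 0, 0, 0, 0, 1],
    [0, 0, 0, 0, 0, 1, 1, 0, 0, 0, 0, 0, 0, 0, 0, 0, 0, 0, 0, 0, 1, 0, 0, 0, 0, 1, 0, 1],
    [0, 0, 0, 0, 0, 1, 1, 0, 0, 0, 0, 0, 0, 0, 0, 0, 0, 0, 0, 1, 0, 0, 0, 0, 1, 0, 0, 1],
    [0, 0, 0, 0, 0, 0, 0, 0, 0, 0, 0, 0, 0, 0, 0, 0, 0, 0, 0, 0, 0, 0, 0, 0, 0, 0, 1],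
    [0, 0, 0, 0, 0, 0, 0, 0, 0, 0, 0, 0, 0, 0, 0, 0, 0, 0, 0, 0, 0, 0, 1],
    [0, 0, 0, 0, 0, 1, 1, 0, 0, 0, 0, 0, 0, 0, 0, 0, 0, 0, 0, 0, 0, 1, 0, 1, 0, 0, 1, 1],
    [0, 0, 0, 0, 0, 0, 0, 0, 0, 0, 0, 0, 0, 0, 0, 0, 1, 1, 0, 0, 1, 0, 1, 0, 0, 1, 0, 1],
    [0, 0, 0, 0, 0, 0, 0, 0, 0, 0, 0, 0, 0, 0, 0, 0, 0, 0, 0, 0, 1, 1, 0, 1, 0, 1, 0, 1],
    [0, 0, 0, 0, 0, 0, 1, 0, 0, 0, 0, 0, 0, 0, 0, 0, 0, 0, 0, 0, 0, 0, 0, 0, 0, 0, 0, 1],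
    [0, 0, 0, 0, 0, 0, 0, 0, 0, 0, 0, 0, 0, 0, 0, 0, 0, 0, 0, 0, 0, 0, 0, 0, 0, 0, 0, 1],
    [0, 0, 0, 0, 0, 1, 1, 0, 0, 0, 0, 0, 1, 0, 0, 1, 0, 0, 0, 1, 1, 0, 0, 0, 0, 0, 1, 1],
    [0, 0, 0, 0, 0, 1, 1, 0, 0, 0, 0, 0, 1, 0, 0, 1, 0, 0, 0, 0, 0, 1, 0, 0, 1, 0, 1, 1],
    [0, 0, 1, 0, 0, 0, 1],
    [0, 0, 1, 1, 0, 0, 0, 0, 0, 0, 0, 0, 0, 0, 0, 0, 0, 0, 0, 0, 0, 0, 0, 0, 1, 1],
    [1, 1, 0, 0, 1, 0, 1, 1, 0, 0, 0, 1, 0, 1, 1, 0, 1, 1, 1, 0, 1, 0, 1, 0, 0, 0, 1, 1],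
    [1, 0, 1, 0, 0, 1, 1, 1, 1, 1, 0, 0, 0, 0, 1, 0, 1, 0, 0, 0, 0, 1, 1, 0, 1, 0, 1, 0, 0, 0, 0, 0, 0, 0, 0, 0, 0, 0, 0, 0, 0, 0, 0, 0, 1],
    [0, 0, 0, 1, 1, 0, 1, 0, 1, 0, 1, 0, 1, 1, 0, 1, 1, 0, 0, 0, 1, 1, 1, 0, 1, 1, 1, 1, 0, 0, 0, 0, 0, 0, 0, 0, 0, 0, 0, 0, 0, 0, 0, 0, 1]]
  tgt := [
    ([], []),
    ([], []),
    ([], [(0, 1), (1, 1), (2, 1), (3, 1), (8, 1), (9, 1), (11, 1), (12, 1), (16, 1), (17, 1), (20, 1), (21, 1), (22, 1)]),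
    ([], [(4, 1), (6, 1), (13, 1), (19, 1), (22, 1), (23, 1)]),
    ([], []),
    ([], [(1, 1), (4, 1), (7, 1), (12, 1), (13, 1), (17, 1), (19, 1), (20, 1), (21, 1)]),
    ([], [(0, 1), (1, 1), (2, 1), (3, 1), (8, 1), (9, 1), (11, 1), (12, 1), (16, 1), (17, 1), (20, 1), (21, 1)]),
    ([], [(0, 1), (4, 1), (7, 1), (9, 1), (11, 1), (13, 1), (14, 1), (15, 1), (19, 1), (24, 1)]),
    ([(0, 1)], []),
    ([], [(3, 1), (7, 1), (8, 1), (11, 1), (12, 1), (13, 1), (15, 1), (18, 1), (23, 1), (24, 1), (25, 1), (26, 1)]),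
    ([], []),
    ([], [(0, 1), (1, 1), (2, 1), (6, 1), (7, 1), (9, 1), (10, 1), (12, 1), (20, 1), (21, 1), (22, 1), (23, 1)]),
    ([], [(2, 1), (3, 1), (4, 1), (5, 1), (7, 1), (12, 1), (13, 1), (16, 1), (19, 1), (20, 1), (22, 1), (23, 1)]),
    ([], [(0, 1)]),
    ([], [(0, 1), (2, 1), (7, 1), (9, 1), (20, 1)]),
    ([], [(1, 1), (2, 1), (3, 1), (4, 1), (5, 1), (6, 1), (11, 1), (12, 1), (16, 1), (17, 1), (20, 1), (21, 1), (22, 1), (23, 1)]),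
    ([], [(0, 1), (2, 1), (3, 1), (4, 1), (6, 1), (7, 1), (8, 1), (9, 1), (11, 1), (13, 1), (16, 1), (20, 1), (22, 1), (23, 1)]),
    ([], [(6, 1), (9, 1), (19, 1), (20, 1), (22, 1), (23, 1)]),
    ([], [(1, 1), (4, 1), (6, 1), (7, 1), (8, 1), (10, 1), (12, 1), (13, 1), (17, 1), (19, 1), (21, 1), (22, 1), (23, 1)]),
    ([], [(0, 1), (2, 1), (3, 1), (6, 1), (7, 1), (9, 1), (12, 1), (16, 1)]),
    ([], [(1, 1), (4, 1), (7, 1), (8, 1), (12, 1), (13, 1), (17, 1), (19, 1), (20, 1), (21, 1)]),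
    ([], [(0, 1), (1, 1), (2, 1), (3, 1), (9, 1), (11, 1), (16, 1), (17, 1), (19, 1)]),
    ([], [(9, 1), (11, 1), (16, 1)]),
    ([], [(1, 1), (4, 1), (7, 1), (8, 1), (11, 1), (13, 1)]),
    ([], [(4, 1), (6, 1), (8, 1), (11, 1), (13, 1)]),
    ([], [(0, 1), (1, 1), (2, 1), (3, 1), (9, 1), (12, 1), (16, 1), (17, 1), (19, 1), (20, 1), (21, 1)]),
    ([], [(13, 1)]),
    ([], [(19, 1)])]

/-- Orbits inside the subgroup. -/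
def orbits : List (ℕ × List (ℕ × List ℕ)) := [
    (1, [(1, []), (2, [0, 3, 6]), (3, [0, 3]), (5, [3, 6]), (6, [0, 5, 6]), (8, [0, 4]), (9, [0, 4, 6]), (10, [6]), (13, [0]), (14, [5, 6]), (15, [0, 6]), (17, [4, 6]), (18, [5]), (19, [3]), (20, [0, 5]), (22, [4])]),
    (2, [(2, []), (3, [2, 3, 4]), (6, [1, 6]), (8, [2, 5]), (9, [3, 4, 5]), (13, [1, 3, 4, 5, 6]), (15, [1, 2, 5, 6]), (20, [1, 2, 3, 4, 6])])]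

theorem ident_ok : identPerm 5 CfsgLib.Spor.Mults.MTwentyTwo.eltRows 149 CfsgLib.Spor.Mults.MTwentyTwo.basePts cert sw gw = true := by decide +kernel

theorem sub_ok : subPermOK 24 5 CfsgLib.Spor.Mults.MTwentyTwo.eltRows sw [] orbits = true := by decide +kernel

theorem shape_ok : cert.shapeOK = true := by decide +kernel

theorem lin_ok : cert.linOK = true := by decide +kernel

theorem prod_ok : cert.p ^ cert.m ≤ (orbits.map fun e => e.2.length).prod := by decide +kernel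

end CfsgLib.Spor.Mults.MTwentyTwo.P2Cyc
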