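import Cfsg.Agent.Lib.Spor.SchurCert.PermBridge
import Cfsg.Agent.Lib.Spor.Mults.MTwentyTwo.Data

/-!
The certificate at the prime 3: a polycyclic sequence of a Sylow subgroup and conjugations killing the tails.
-/

set_option autoImplicit false
set_option maxRecDepth 100000
set_option maxHeartbeats 0

namespace CfsgLib.Spor.Mults.MTwentyTwo.P3

open CfsgLib.Spor.SchurCert

/-- The Sylow elements. -/
def sw : List (List ℕ) := [
    [6, 118, 114, 137, 6],
    [40, 72, 116, 106, 131]]

/-- The conjugating elements. -/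
def gw : List (List ℕ) := [
    [40, 146, 115, 6, 6],
    [8, 94, 140, 135, 6]]

/-- The certificate. -/
def cert : SchurCert.Cert where
  p := 3
  m := 2
  N := 9
  rules := [
    ([0, 0, 0], []),
    ([1, 1, 1], []),
    ([1, 0], [0, 1])]
  maps := [
    [([0, 1], [0, 0, 1, 1])],
    [([0], [0, 0]), ([1], [1, 1])]]
  overlaps := [
    ([1, 1, 1, 0], [(1, 0)], [(2, 2), (2, 1), (2, 0), (1, 1)])]
  fuses := [
    ⟨0, [0, 0, 0], [], [(2, 1), (2, 3), (2, 2), (0, 0), (1, 0)], [], [(2, 3), (2, 2), (0, 0), (2, 1), (2, 0), (1, 1), (2, 1), (2, 2), (0, 0), (1, 0)], []⟩,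
    ⟨1, [1, 1, 1], [], [(1, 0)], [], [(1, 0), (1, 0)], []⟩]
  adj := [
    [(3, 1), (6, 2)],
    [(6, 1)]]
  base := [
    ([(2, 1)], 3, [(0, 2)])]
  dense := [
    [0, 0, 6],
    [8, 8, 6, 6],
    [0, 8, 0, 0, 0, 0, 6]]
  tgt := [
    ([(0, 6)], [(1, 8), (2, 1)]),
    ([], [(2, 8)]),
    ([(0, 1)], [])]

/-- Orbits inside the subgroup. -/
def orbits : List (ℕ × List (ℕ × List ℕ)) := [
    (1, [(1, []), (9, [1, 1]), (11, [1])]),
    (2, [(2, []), (8, [0, 0]), (12, [0])])]

theorem ident_ok : identPerm 5 CfsgLib.Spor.Mults.MTwentyTwo.eltRows 149 CfsgLib.Spor.Mults.MTwentyTwo.basePts cert sw gw = true := by decide +kernel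

theorem sub_ok : subPermOK 24 5 CfsgLib.Spor.Mults.MTwentyTwo.eltRows sw [] orbits = true := by decide +kernel

theorem shape_ok : cert.shapeOK = true := by decide +kernel

theorem lin_ok : cert.linOK = true := by decide +kernel

theorem prod_ok : cert.p ^ cert.m ≤ (orbits.map fun e => e.2.length).prod := by decide +kernel

end CfsgLib.Spor.Mults.MTwentyTwo.P3
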