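import Cfsg.Agent.Lib.Spor.SchurCert.PermBridge
import Cfsg.Agent.Lib.Spor.Mults.MTwentyTwo.Data

/-!
The certificate at the prime 5: a polycyclic sequence of a Sylow subgroup and conjugations killing the tails.
-/

set_option autoImplicit false
set_option maxRecDepth 100000
set_option maxHeartbeats 0

namespace CfsgLib.Spor.Mults.MTwentyTwo.P5

open CfsgLib.Spor.SchurCert

/-- The Sylow elements. -/
def sw : List (List ℕ) := [
    [8, 52, 140, 109, 6]]

/-- The conjugating elements. -/
def gw : List (List ℕ) := [
    [54, 145, 142, 107, 131]]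

/-- The certificate. -/
def cert : SchurCert.Cert where
  p := 5
  m := 1
  N := 5
  rules := [
    ([0, 0, 0, 0, 0], [])]
  maps := [
    [([0], [0, 0])]]
  overlaps := []
  fuses := [
    ⟨0, [0, 0, 0, 0, 0], [], [(0, 0)], [], [(0, 0), (0, 0)], []⟩]
  adj := [
    []]
  base := []
  dense := [
    [4]]
  tgt := [
    ([], [(0, 4)])]

/-- Orbits inside the subgroup. -/
def orbits : List (ℕ × List (ℕ × List ℕ)) := [
    (1, [(1, []), (3, [0, 0, 0]), (9, [0]), (16, [0, 0, 0, 0]), (18, [0, 0])])]

theorem ident_ok : identPerm 5 CfsgLib.Spor.Mults.MTwentyTwo.eltRows 149 CfsgLib.Spor.Mults.MTwentyTwo.basePts cert sw gw = true := by decide +kernel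

theorem sub_ok : subPermOK 24 5 CfsgLib.Spor.Mults.MTwentyTwo.eltRows sw [] orbits = true := by decide +kernel

theorem shape_ok : cert.shapeOK = true := by decide +kernel

theorem lin_ok : cert.linOK = true := by decide +kernel

theorem prod_ok : cert.p ^ cert.m ≤ (orbits.map fun e => e.2.length).prod := by decide +kernel

end CfsgLib.Spor.Mults.MTwentyTwo.P5
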