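/-
Checks of the lifts at a range of points.
-/
import Cfsg.Agent.Lib.Spor.Mults.MTwentyTwo.Lifts

namespace CfsgLib.Spor.Mults.MTwentyTwo

open CfsgLib.Spor.TC

set_option maxRecDepth 100000 in
theorem pointRange0 : allFrom (fun c => lifts.pointOK c) 0 1250 = true := by decide +kernel

set_option maxRecDepth 100000 in
theorem pointRange1250 : allFrom (fun c => lifts.pointOK c) 1250 1250 = true := by decide +kernel

set_option maxRecDepth 100000 in
theorem pointRange2500 : allFrom (fun c => lifts.pointOK c) 2500 1250 = true := by decide +kernel

set_option maxRecDepth 100000 in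
theorem pointRange3750 : allFrom (fun c => lifts.pointOK c) 3750 1250 = true := by decide +kernel

set_option maxRecDepth 100000 in
theorem pointRange5000 : allFrom (fun c => lifts.pointOK c) 5000 1250 = true := by decide +kernel

set_option maxRecDepth 100000 in
theorem pointRange6250 : allFrom (fun c => lifts.pointOK c) 6250 694 = true := by decide +kernel

end CfsgLib.Spor.Mults.MTwentyTwo
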