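/-
Checks of the lifts at a range of points.
-/
import Cfsg.Agent.Lib.Spor.Mults.MTwentyTwo.Lifts

namespace CfsgLib.Spor.Mults.MTwentyTwo

open CfsgLib.Spor.TC

set_option maxRecDepth 100000 in
theorem repRange0 : allFrom (fun i => lifts.repOK i) 0 458 = true := by decide +kernel

set_option maxRecDepth 100000 in
theorem repRange458 : allFrom (fun i => lifts.repOK i) 458 458 = true := by decide +kernel

set_option maxRecDepth 100000 in
theorem repRange916 : allFrom (fun i => lifts.repOK i) 916 458 = true := by decide +kernel

set_option maxRecDepth 100000 in
theorem repRange1374 : allFrom (fun i => lifts.repOK i) 1374 458 = true := by decide +kernel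

set_option maxRecDepth 100000 in
theorem repRange1832 : allFrom (fun i => lifts.repOK i) 1832 72 = true := by decide +kernel

end CfsgLib.Spor.Mults.MTwentyTwo
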