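/-
The stem extension of M22.
-/
import Cfsg.Agent.Lib.Spor.Mults.MTwentyTwo.Group
import Cfsg.Agent.Lib.Spor.Mults.MTwentyTwo.PresBound
import Cfsg.Agent.Lib.Spor.Mults.MTwentyTwo.CheckRep0
import Cfsg.Agent.Lib.Spor.Mults.MTwentyTwo.CheckPoint0

set_option maxRecDepth 20000

namespace CfsgLib.Spor.Mults.MTwentyTwo

open CfsgLib.Spor.TC

/-- The involutions as words in the packed elements. -/
def genWords : List (List ℕ) := [[35, 145, 66, 108, 6], [6, 145, 6, 105, 130], [54, 147, 143, 134, 131], [6, 95, 67, 109, 6]]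

/-- Orbits along the base as words in the involutions. -/
def genOrbits : List (ℕ × List (ℕ × List ℕ)) := [
  (1, [
    (1, []),
    (2, [0, 1, 0, 3]),
    (3, [3, 1, 0, 1, 0, 1]),
    (4, [2, 0, 3, 0, 1, 0, 1, 0]),
    (5, [1, 0, 2, 0, 3, 1, 2, 0]),
    (6, [1, 0, 3, 1, 3, 0]),
    (7, [3, 0, 1, 0]),
    (8, [2, 1, 2, 0]),
    (9, [1, 0, 3, 1, 0, 1, 0]),
    (10, [3, 2, 1, 0]),
    (11, [1, 3, 2, 1, 0]),
    (12, [3, 1, 3, 0, 1, 0]),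
    (13, [1, 0, 1, 0]),
    (14, [1, 2]),
    (15, [3, 0, 0, 0]),
    (16, [0, 1, 0, 3, 1, 0]),
    (17, [0, 1, 3, 0, 1, 2, 0]),
    (18, [0, 3, 1, 0]),
    (19, [3, 1, 2, 0]),
    (20, [2, 0, 3, 2, 1, 0]),
    (21, [0, 0, 1, 0]),
    (22, [1, 3, 0, 3, 1, 0])]),
  (2, [
    (2, []),
    (3, [3, 1]),
    (4, [0, 3, 0, 3, 1]),
    (5, [2, 1, 3, 2]),
    (6, [1, 0, 3, 0]),
    (7, [3]),
    (8, [2, 0, 2]),
    (9, [0, 3, 0, 2, 1, 2]),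
    (10, [3, 0, 2, 0]),
    (11, [2, 1, 0, 1, 3, 2, 1]),
    (12, [2, 1, 0, 2, 3]),
    (13, [1]),
    (14, [3, 0, 1, 0, 2, 0, 1, 0]),
    (15, [2, 1, 0, 2]),
    (16, [2, 1, 0, 3, 0, 2]),
    (17, [1, 3]),
    (18, [0, 3, 0]),
    (19, [0, 3, 0, 3, 2, 1, 2, 3]),
    (20, [2, 1, 3, 1, 2]),
    (21, [0, 3, 0, 2, 1, 3, 2]),
    (22, [0, 3, 0, 3])]),
  (3, [
    (3, []),
    (4, [0, 2, 0, 3, 2, 1, 3, 0, 1, 2, 1]),
    (5, [1, 2, 1, 2]),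
    (6, [1, 3, 0, 3, 2, 0, 3, 1]),
    (7, [3, 1, 0, 2, 0, 3]),
    (8, [0, 1, 0, 2, 0, 1, 0, 3, 0, 1, 0, 2, 0, 1, 0]),
    (9, [3, 2, 0, 3, 1, 2, 1, 3]),
    (10, [2, 0, 2, 0, 3, 0, 3, 1, 3]),
    (11, [2, 1, 0, 1, 2]),
    (12, [0, 1, 0, 2, 0, 1, 0, 3, 0, 1, 0, 1, 2, 1, 0, 1, 0]),
    (13, [2, 3, 1, 2, 0, 3, 2, 1, 2, 1, 0, 1, 2, 1, 0]),
    (14, [0, 1, 0, 2, 0, 1, 0, 3, 2, 1, 3, 1, 0, 1, 0, 2]),
    (15, [3, 2, 1, 0, 1, 2, 3]),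
    (16, [2, 0, 1, 3, 1, 0, 2]),
    (17, [2, 1, 3, 2, 3, 1]),
    (18, [2, 1, 0, 2, 1]),
    (19, [1, 3, 0, 3, 0, 2, 1, 0, 2, 3, 1]),
    (20, [3, 2, 0, 1, 2, 1, 3, 1]),
    (21, [3, 2, 0, 1, 2, 0, 3, 2, 0]),
    (22, [0, 1, 0, 3, 1, 3, 0, 3, 2, 1, 0])]),
  (4, [
    (4, []),
    (6, [0, 1, 0, 1, 2, 1, 0, 1, 0, 3, 0, 1, 0, 2, 0, 1, 0, 3, 1, 2, 1, 3, 1, 3, 0, 2, 3]),
    (7, [0, 1, 0, 1, 2, 1, 0, 1, 0, 3, 0, 1, 0, 2, 0, 1, 0, 3, 2, 0, 3, 1, 0, 2, 3]),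
    (8, [1, 2, 0, 1, 2, 0, 3, 0, 1, 2, 1, 3, 0, 3, 2, 1]),
    (9, [1, 2, 0, 1, 2, 3, 2, 0, 1, 2, 0, 1, 0, 3, 1, 3, 0, 2, 1, 3, 1, 0]),
    (10, [0, 1, 0, 2, 0, 1, 0, 3, 0, 1, 0, 2, 0, 1, 0, 2, 1, 3, 1, 2, 0, 1, 0, 3, 1, 3, 0, 3, 2, 1, 0, 1]),
    (11, [1, 2, 1, 0, 3, 1, 2, 3, 0, 2, 0, 3, 2, 1, 2, 3, 0, 3, 0, 2, 1, 0, 2, 1, 3, 0, 2, 0]),
    (12, [1, 3, 2, 3, 1, 2, 0, 1, 0, 2, 0, 1, 0, 3, 2, 1, 0, 1, 0, 2]),
    (13, [0, 1, 0, 2, 0, 1, 0, 3, 0, 1, 0, 2, 0, 1, 0, 1, 3, 2, 1, 3, 0, 1, 3, 2]),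
    (15, [1, 3, 2, 3, 1, 2, 0, 3, 0, 1, 2, 1, 3, 0, 3, 0, 1, 2]),
    (16, [1, 3, 1, 2, 1, 0, 2, 1, 2, 1, 3, 0, 2, 3]),
    (18, [3, 0, 2, 0, 1, 3, 2, 3, 1, 2, 0, 3, 0, 1, 2, 3, 1, 0, 2]),
    (19, [0, 3, 0, 2, 1, 3, 0, 3, 0, 2]),
    (20, [1, 2, 0, 1, 2, 0, 3, 0, 2, 1, 0, 1, 2, 1, 3]),
    (21, [1, 3, 1, 2, 1, 0, 2, 3, 0, 2, 1, 2, 1, 2, 1, 0]),
    (22, [0, 3, 0, 1, 3, 1, 0, 3, 0])]),
  (5, [
    (5, []),
    (14, [1, 3, 2, 0, 1, 2, 0, 3, 0, 3, 2, 0, 1, 2]),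
    (17, [0, 3, 0, 1, 3, 1, 0, 3, 1, 0, 2, 0, 1, 0, 3, 0, 1, 0, 2, 0, 1, 0, 2, 3, 1, 2, 0, 3, 2, 1, 2, 0, 1, 2, 1, 0, 1])])]

theorem lifts_ok : lifts.OK := by
  refine ⟨?_, ?_, by decide +kernel⟩
  · intro c hc
    by_cases h0 : c < 1250
    · exact allFrom_spec pointRange0 c (by omega) (by omega)
    by_cases h1250 : c < 2500
    · exact allFrom_spec pointRange1250 c (by omega) (by omega)
    by_cases h2500 : c < 3750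
    · exact allFrom_spec pointRange2500 c (by omega) (by omega)
    by_cases h3750 : c < 5000
    · exact allFrom_spec pointRange3750 c (by omega) (by omega)
    by_cases h5000 : c < 6250
    · exact allFrom_spec pointRange5000 c (by omega) (by omega)
    exact allFrom_spec pointRange6250 c (by omega) (by change c < 6944 at hc; omega)
  · intro c hc
    by_cases h0 : c < 458
    · exact allFrom_spec repRange0 c (by omega) (by omega)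
    by_cases h458 : c < 916
    · exact allFrom_spec repRange458 c (by omega) (by omega)
    by_cases h916 : c < 1374
    · exact allFrom_spec repRange916 c (by omega) (by omega)
    by_cases h1374 : c < 1832
    · exact allFrom_spec repRange1374 c (by omega) (by omega)
    exact allFrom_spec repRange1832 c (by omega) (by change c < 1904 at hc; omega)

theorem sat_check : satOK 24 5 eltRows 149 basePts genWords rels4 genOrbits = true := by decide +kernel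

theorem orbit_count : (transIdx.map List.length).prod ≤ (genOrbits.map fun e => e.2.length).prod := by decide +kernel

/-- The cover. -/
theorem exists_cover (hperf : commutator ↥H = ⊤) :
    ∃ (Γ : Type) (_ : Group Γ) (_ : Finite Γ) (σ : Γ →* ↥H),
      Cfsg.IsStemExtension σ ∧ IsCyclic σ.ker ∧ Nat.card σ.ker = 12 := by
  obtain ⟨g, hsat, hgen⟩ := packed.exists_sat sat_check orbit_count
  have hr : lifts.rels.map Prod.fst = rels4 := by decide +kernel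
  refine Cover.exists_cover lifts_ok hperf (g := g) (by rw [hr]; exact hsat) hgen ?_ (ps := [0, 4928]) ?_
    (cs := [4, 4, 4, 0]) (cr := [6, 0, 3, 1, 3, 0, 0, 0, 9]) ?_
  · rw [hr, packed.card, chain_size]
    exact card4
  · decide +kernel
  · decide +kernel

end CfsgLib.Spor.Mults.MTwentyTwo
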