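import Cfsg.Agent.Lib.Spor.Mults.Transport
import Cfsg.Agent.Lib.Spor.Mults.MTwentyTwo.CoverBuild
import Cfsg.Agent.Lib.Spor.Mults.MTwentyTwo.Bound
import Cfsg.Agent.Lib.Spor.MathieuSimple

/-!
The Schur multiplier of M22 is cyclic of order twelve.
-/

set_option autoImplicit false

namespace CfsgLib.Spor.Mults.MTwentyTwo

open Cfsg CfsgLib.Spor MulAction
open scoped Pointwise

theorem isSimpleGroup_M22 : IsSimpleGroup ↥Spor.M22 := by
  haveI := isSimpleGroup_stabilizer_two_points (none : GolayPt) (some 0) (by simp)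
  have e : (stabilizer M24 (none : GolayPt) ⊓ stabilizer M24 (some 0 : GolayPt)).map M24.subtype = Spor.M22 := by
    ext g
    rw [Subgroup.map_inf _ _ _ M24.subtype_injective, Subgroup.mem_inf, mem_map_stabilizer, mem_map_stabilizer,
      OuterAut.mem_M22]
    exact ⟨fun h => ⟨h.1.1, h.1.2, h.2.2⟩, fun h => ⟨⟨h.1, h.2.1⟩, h.1, h.2.2⟩⟩
  exact (((Subgroup.equivMapOfInjective _ _ M24.subtype_injective).trans (MulEquiv.subgroupCongr e)).symm).isSimpleGroup

theorem commutator_H : commutator ↥H = ⊤ := by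
  haveI := isSimpleGroup_M22
  haveI : IsSimpleGroup ↥H := equivH.symm.isSimpleGroup
  exact commutator_eq_top_of_card (by rw [card_group]; norm_num)

theorem ker_bound {Γ : Type} [Group Γ] [Finite Γ] (σ : Γ →* ↥H) (hσ : Cfsg.IsStemExtension σ) :
    IsCyclic σ.ker ∧ Nat.card σ.ker ∣ 12 := by
  have hcomm : ∀ a b : σ.ker, a * b = b * a := fun a b => Subtype.ext (Subgroup.mem_center_iff.1 (hσ.2.1 b.2) a)
  -- a generator of each prime part
  have part : ∀ (p : ℕ) [Fact p.Prime], (∀ P : Subgroup Γ, P ≤ σ.ker → IsPGroup p P → IsCyclic P) →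
      ∀ m, (∀ P : Subgroup Γ, P ≤ σ.ker → IsPGroup p P → Nat.card P ≤ p ^ m) →
      ∃ a : σ.ker, orderOf a = p ^ (Nat.card σ.ker).factorization p ∧ (Nat.card σ.ker).factorization p ≤ m := by
    intro p hp hcyc m hle
    let Q : Sylow p σ.ker := default
    let P : Subgroup Γ := (Q : Subgroup σ.ker).map σ.ker.subtype
    have hPle : P ≤ σ.ker := Subgroup.map_subtype_le _
    have hPp : IsPGroup p P := Q.2.map _
    have hcard : Nat.card P = p ^ (Nat.card σ.ker).factorization p := by
      rw [← Q.card_eq_multiplicity]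
      exact Subgroup.card_map_of_injective σ.ker.subtype_injective
    haveI := hcyc P hPle hPp
    obtain ⟨a, ha⟩ := IsCyclic.exists_generator (α := P)
    refine ⟨⟨a.1, hPle a.2⟩, ?_, ?_⟩
    · rw [← Subgroup.orderOf_coe, Subgroup.orderOf_coe a, orderOf_eq_card_of_forall_mem_zpowers ha, hcard]
    · have := hle P hPle hPp
      rw [hcard] at this
      exact (Nat.pow_le_pow_iff_right hp.out.one_lt).1 this
  haveI : Fact (Nat.Prime 2) := ⟨Nat.prime_two⟩
  haveI : Fact (Nat.Prime 3) := ⟨Nat.prime_three⟩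
  obtain ⟨a, ha, ha2⟩ := part 2 (fun P h h' => isCyclic_2 hσ P h h') 2 fun P h h' => card_le_2 hσ P h h'
  obtain ⟨b, hb, hb3⟩ := part 3 (fun P h h' => (cyclic_of_dvd_prime Nat.prime_three (by
    obtain ⟨j, hj⟩ := IsPGroup.iff_card.1 h'
    have h3 := card_le_3 hσ P h h'
    rw [hj] at h3 ⊢
    have : j ≤ 1 := (Nat.pow_le_pow_iff_right (by norm_num : 1 < 3)).1 (h3.trans_eq (pow_one 3).symm)
    simpa using Nat.pow_dvd_pow 3 this)).1) 1 fun P h h' => by simpa using card_le_3 hσ P h h'
  set c := Nat.card σ.ker with hc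
  have hpos : 0 < c := Nat.card_pos
  have hsplit : c = 2 ^ c.factorization 2 * 3 ^ c.factorization 3 := by
    refine Nat.eq_of_factorization_eq hpos.ne' (by positivity) fun q => ?_
    rw [Nat.factorization_mul (by positivity) (by positivity), Finsupp.add_apply,
      Nat.Prime.factorization_pow Nat.prime_two, Nat.Prime.factorization_pow Nat.prime_three,
      Finsupp.single_apply, Finsupp.single_apply]
    by_cases h2 : 2 = q
    · subst h2; simp
    by_cases h3 : 3 = q
    · subst h3; simp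
    rw [if_neg h2, if_neg h3, Nat.add_zero]
    by_cases hq : q.Prime
    · exact Nat.factorization_eq_zero_of_not_dvd (not_dvd_other hσ hq (Ne.symm h2) (Ne.symm h3))
    · exact Nat.factorization_eq_zero_of_not_prime _ hq
  refine ⟨isCyclic_of_orderOf_eq_card (a * b) ?_, ?_⟩
  · rw [Commute.orderOf_mul_eq_mul_orderOf_of_coprime (hcomm a b)
      (by rw [ha, hb]; exact Nat.Coprime.pow _ _ (by norm_num)), ha, hb, ← hsplit]
  · rw [hsplit]
    exact Nat.mul_dvd_mul (Nat.pow_dvd_pow 2 ha2) (Nat.pow_dvd_pow 3 hb3) |>.trans (by norm_num)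

theorem multiplier_M22 : Cfsg.HasCyclicSchurMultiplier ↥Spor.M22 12 :=
  hasCyclic_of equivH (exists_cover commutator_H) fun _ _ _ σ hσ => ker_bound σ hσ

end CfsgLib.Spor.Mults.MTwentyTwo
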